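import Mathlib
import Groth.Prelude.Def_GrassD
import Groth.Agent.PullbackMod.LimFree

/-! Base change of quotient maps, and the last step of a flag scheme. -/

set_option autoImplicit false
set_option backward.isDefEq.respectTransparency false
set_option linter.style.haveILetI false

universe u

open CategoryTheory CategoryTheory.Limits AlgebraicGeometry Grass

namespace Groth.Agent.FlagLib

theorem rank_pullback {X T : Scheme.{u}} (g : T ⟶ X) (M : X.Modules) {n : ℕ} (h : FlatMod.IsFinLocFreeOfRank n M) :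
    FlatMod.IsFinLocFreeOfRank n ((Scheme.Modules.pullback g).obj M) := by
  have hM : FlatMod.IsFinLocFree M := fun x => ⟨(h x).choose, n, (h x).choose_spec⟩
  obtain ⟨h1, h2, -⟩ := (PullbackMod.isFinLocFree_iff M).mp hM
  haveI := h1
  haveI := PullbackMod.isQCoh_pullback g M
  exact (PullbackMod.isFinLocFreeOfRank_iff_freeAt _ (PullbackMod.isFP_pullback g M h2) n).2 fun x =>
    PullbackMod.freeAt_pullback M g x ((PullbackMod.isFinLocFreeOfRank_iff_freeAt M h2 n).1 h _)

variable {X F T : Scheme.{u}} {π : F ⟶ X} {E : X.Modules} {Q : F.Modules}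
  (q : (Scheme.Modules.pullback π).obj E ⟶ Q)

/-- The base change of a quotient map, kept folded. -/
noncomputable def qb {h : T ⟶ F} {g : T ⟶ X} (hg : h ≫ π = g) :
    (Scheme.Modules.pullback g).obj E ⟶ (Scheme.Modules.pullback h).obj Q := quotBC hg q

theorem qb_eq {h : T ⟶ F} {g : T ⟶ X} (hg : h ≫ π = g) : qb q hg = quotBC hg q := rfl

theorem qb_rfl {h : T ⟶ F} : qb q (rfl : h ≫ π = h ≫ π) =
    (Scheme.Modules.pullbackComp h π).inv.app E ≫ (Scheme.Modules.pullback h).map q := by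
  simp [qb, quotBC, Scheme.Modules.pullbackCongr]

theorem epi_qb [Epi q] {h : T ⟶ F} {g : T ⟶ X} (hg : h ≫ π = g) : Epi (qb q hg) := by
  haveI : Epi ((Scheme.Modules.pullback h).map q) := epi_pullback_map h q
  rw [qb_eq]
  dsimp only [quotBC]
  exact epi_comp' inferInstance (epi_comp' inferInstance inferInstance)

theorem qb_comp {h : T ⟶ F} {g : T ⟶ X} (hg : h ≫ π = g) {Q' : F.Modules} (r : Q ⟶ Q') :
    qb q hg ≫ (Scheme.Modules.pullback h).map r = qb (q ≫ r) hg := by
  simp only [qb, quotBC, Category.assoc, Functor.map_comp]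

theorem qb_congr {h h' : T ⟶ F} (e : h = h') {g : T ⟶ X} (hg : h ≫ π = g) (hg' : h' ≫ π = g) :
    qb q hg ≫ (Scheme.Modules.pullbackCongr e).hom.app Q = qb q hg' := by
  subst e
  simp [Scheme.Modules.pullbackCongr]

theorem assoc_app {A B C D : Scheme.{u}} (f : A ⟶ B) (g : B ⟶ C) (h : C ⟶ D) (M : D.Modules) :
    (Scheme.Modules.pullbackComp f (g ≫ h)).inv.app M ≫
        (Scheme.Modules.pullback f).map ((Scheme.Modules.pullbackComp g h).inv.app M) =
      (Scheme.Modules.pullbackCongr (Category.assoc f g h).symm).hom.app M ≫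
        (Scheme.Modules.pullbackComp (f ≫ g) h).inv.app M ≫
          (Scheme.Modules.pullbackComp f g).inv.app ((Scheme.Modules.pullback h).obj M) := by
  have h0 := congrArg (fun n => NatTrans.app n M) (Scheme.Modules.pseudofunctor_associativity (f := f) (g := g) (h := h))
  simp only [NatTrans.comp_app, Functor.associator_hom_app, Functor.whiskerRight_app, Functor.whiskerLeft_app,
    Functor.comp_obj, Category.id_comp, eqToHom_app] at h0
  rw [← cancel_mono ((Scheme.Modules.pullbackComp f g).hom.app ((Scheme.Modules.pullback h).obj M) ≫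
    (Scheme.Modules.pullbackComp (f ≫ g) h).hom.app M)]
  simp only [Category.assoc, Iso.inv_hom_id_app_assoc, Iso.inv_hom_id_app, Category.comp_id]
  refine h0.trans ?_
  simp [Scheme.Modules.pullbackCongr]

theorem qb_qb {F' : Scheme.{u}} {φ : F' ⟶ F} {π' : F' ⟶ X} (hφ : φ ≫ π = π') {h : T ⟶ F'} {g : T ⟶ F}
    (hg : h ≫ φ = g) {g₀ : T ⟶ X} (hh : h ≫ π' = g₀) (hgπ : g ≫ π = g₀) {Q' : F'.Modules}
    (r : (Scheme.Modules.pullback φ).obj Q ⟶ Q') :
    qb (qb q hφ ≫ r) hh = qb q hgπ ≫ qb r hg := by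
  subst hg hφ hgπ
  have e2 : ∀ {A B : Scheme.{u}} (a : A ⟶ B) (e : a = a) (M : B.Modules),
      (Scheme.Modules.pullbackCongr e).inv.app M = 𝟙 _ := by
    intro A B a e M
    simp [Scheme.Modules.pullbackCongr]
  simp only [qb, quotBC, e2, Category.id_comp, Functor.map_comp, Category.assoc]
  rw [reassoc_of% (assoc_app h φ π E)]
  have hnat := (Scheme.Modules.pullbackComp h φ).inv.naturality q
  rw [reassoc_of% hnat]
  erw [Category.id_comp]

section step

variable {m : ℕ} {n : Fin (m + 2) → ℕ} {Qs : Fin (m + 1) → F.Modules}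
  {qs : ∀ i, (Scheme.Modules.pullback π).obj E ⟶ Qs i} (hF : IsFlag π E (fun i => n (Fin.castSucc i)) Qs qs)
  {F' : Scheme.{u}} {π' : F' ⟶ X} {Q' : Fin (m + 2) → F'.Modules}
  {q' : ∀ i, (Scheme.Modules.pullback π').obj E ⟶ Q' i} (hF' : IsFlag π' E n Q' q')
  (φ : F' ⟶ F) (hφ : φ ≫ π = π') (e : ∀ i, (Scheme.Modules.pullback φ).obj (Qs i) ≅ Q' (Fin.castSucc i))
  (he : ∀ i, qb (qs i) hφ ≫ (e i).hom = q' (Fin.castSucc i))
  (t : Q' (Fin.castSucc (Fin.last m)) ⟶ Q' (Fin.last (m + 1)))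
  (ht : q' (Fin.castSucc (Fin.last m)) ≫ t = q' (Fin.last (m + 1)))

include hF hF' he ht in
theorem isGrass_step : IsGrass φ (Qs (Fin.last m)) (n (Fin.last (m + 1))) (Q' (Fin.last (m + 1)))
    ((e (Fin.last m)).hom ≫ t) := by
  haveI : Epi t := by
    haveI : Epi (q' (Fin.castSucc (Fin.last m)) ≫ t) := ht ▸ hF'.epi _
    exact epi_of_epi (q' (Fin.castSucc (Fin.last m))) t
  refine ⟨hF'.rank _, epi_comp _ _, fun T g L hL s hs => ?_⟩
  haveI := hs
  let a : ∀ i, (Scheme.Modules.pullback (g ≫ π)).obj E ⟶ (Scheme.Modules.pullback g).obj (Qs i) := fun i =>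
    qb (qs i) (rfl : g ≫ π = g ≫ π)
  let aL : (Scheme.Modules.pullback (g ≫ π)).obj E ⟶ L := a (Fin.last m) ≫ s
  have hepi : ∀ i, Epi (a i) := fun i => haveI := hF.epi i; epi_qb (qs i) rfl
  haveI := hepi (Fin.last m)
  have hnest : ∀ i j, i ≤ j → ∃ τ : (Scheme.Modules.pullback g).obj (Qs i) ⟶ (Scheme.Modules.pullback g).obj (Qs j),
      a i ≫ τ = a j := fun i j hij => by
    obtain ⟨τ, hτ⟩ := hF.nested i j hij
    exact ⟨(Scheme.Modules.pullback g).map τ, (qb_comp _ _ τ).trans (by rw [hτ])⟩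
  let L' : Fin (m + 2) → T.Modules := Fin.lastCases L (fun i => (Scheme.Modules.pullback g).obj (Qs i))
  let eL : L' (Fin.last (m + 1)) ≅ L := eqToIso (Fin.lastCases_last ..)
  let eC : ∀ i : Fin (m + 1), L' (Fin.castSucc i) ≅ (Scheme.Modules.pullback g).obj (Qs i) := fun i =>
    eqToIso (Fin.lastCases_castSucc ..)
  let s' : ∀ i, (Scheme.Modules.pullback (g ≫ π)).obj E ⟶ L' i :=
    Fin.lastCases (aL ≫ eL.inv) (fun i => a i ≫ (eC i).inv)
  have hsL : s' (Fin.last (m + 1)) = aL ≫ eL.inv := Fin.lastCases_last ..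
  have hsC : ∀ i, s' (Fin.castSucc i) = a i ≫ (eC i).inv := fun i => Fin.lastCases_castSucc ..
  have hL' : ∀ i, FlatMod.IsFinLocFreeOfRank (n i) (L' i) := by
    intro i
    induction i using Fin.lastCases with
    | last => rw [show L' (Fin.last (m + 1)) = L from Fin.lastCases_last ..]; exact hL
    | cast i => rw [show L' (Fin.castSucc i) = _ from Fin.lastCases_castSucc ..]; exact rank_pullback g _ (hF.rank i)
  have hs' : ∀ i, Epi (s' i) := by
    intro i
    induction i using Fin.lastCases with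
    | last =>
      rw [hsL]
      haveI : Epi aL := epi_comp _ _
      exact epi_comp _ _
    | cast i => rw [hsC]; exact epi_comp' (hepi i) inferInstance
  have hn' : ∀ i j, i ≤ j → ∃ τ : L' i ⟶ L' j, s' i ≫ τ = s' j := by
    intro i j hij
    induction i using Fin.lastCases with
    | last =>
      obtain rfl : j = Fin.last (m + 1) := le_antisymm (Fin.le_last j) hij
      exact ⟨𝟙 _, Category.comp_id _⟩
    | cast i =>
      induction j using Fin.lastCases with
      | last =>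
        obtain ⟨τ, hτ⟩ := hnest i (Fin.last m) (Fin.le_last i)
        exact ⟨(eC i).hom ≫ τ ≫ s ≫ eL.inv, by rw [hsC, hsL, Category.assoc, Iso.inv_hom_id_assoc, reassoc_of% hτ]; rfl⟩
      | cast j =>
        obtain ⟨τ, hτ⟩ := hnest i j (Fin.castSucc_le_castSucc_iff.mp hij)
        exact ⟨(eC i).hom ≫ τ ≫ (eC j).inv, by rw [hsC, hsC, Category.assoc, Iso.inv_hom_id_assoc, reassoc_of% hτ]⟩
  obtain ⟨h, ⟨hh, ε, hε⟩, huniq⟩ := hF'.univ T (g ≫ π) L' hL' s' hs' hn'
  -- the two classifying maps to F agree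
  have hcomp : (h ≫ φ) ≫ π = g ≫ π := by rw [Category.assoc, hφ, hh]
  have hkey : ∀ i, qb (qs i) hcomp ≫ (Scheme.Modules.pullbackComp h φ).inv.app (Qs i) ≫
      (Scheme.Modules.pullback h).map (e i).hom = qb (q' (Fin.castSucc i)) hh := by
    intro i
    rw [← he i, qb_qb (qs i) hφ rfl hh hcomp, qb_rfl]
  have hg : h ≫ φ = g := by
    refine (hF.univ T (g ≫ π) (fun i => (Scheme.Modules.pullback g).obj (Qs i)) (fun i => rank_pullback g _ (hF.rank i))
      a hepi hnest).unique ⟨hcomp, fun i => ((Scheme.Modules.pullbackComp h φ).symm.app (Qs i)) ≪≫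
        (Scheme.Modules.pullback h).mapIso (e i) ≪≫ ε (Fin.castSucc i) ≪≫ eC i, fun i => ?_⟩
      ⟨rfl, fun i => Iso.refl _, fun i => Category.comp_id _⟩
    simp only [Iso.trans_hom, Functor.mapIso_hom, Iso.app_hom, Iso.symm_hom]
    rw [← qb_eq, reassoc_of% (hkey i)]
    rw [show qb (q' (Fin.castSucc i)) hh ≫ (ε (Fin.castSucc i)).hom ≫ (eC i).hom = (qb (q' (Fin.castSucc i)) hh ≫ (ε (Fin.castSucc i)).hom) ≫ (eC i).hom from (Category.assoc _ _ _).symm, show qb (q' (Fin.castSucc i)) hh ≫ (ε (Fin.castSucc i)).hom = s' (Fin.castSucc i) from hε _, hsC, Category.assoc, Iso.inv_hom_id, Category.comp_id]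
  refine ⟨h, ⟨hg, ε (Fin.last (m + 1)) ≪≫ eL, ?_⟩, fun h' ⟨hg', e', he'⟩ => ?_⟩
  · rw [← cancel_epi (a (Fin.last m)), ← qb_eq]
    show qb (qs (Fin.last m)) rfl ≫ qb _ hg ≫ _ = _
    have h1 : qb (q' (Fin.last (m + 1))) hh ≫ (ε (Fin.last (m + 1))).hom = aL ≫ eL.inv := (hε _).trans hsL
    rw [← Category.assoc, ← qb_qb (qs (Fin.last m)) hφ hg hh rfl, ← Category.assoc (qb _ hφ), he (Fin.last m), ht,
      Iso.trans_hom, reassoc_of% h1, Iso.inv_hom_id, Category.comp_id]
  · have hh' : h' ≫ π' = g ≫ π := by rw [← hφ, reassoc_of% hg']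
    let e'' : ∀ i, (Scheme.Modules.pullback h').obj (Q' i) ≅ L' i :=
      Fin.lastCases (e' ≪≫ eL.symm) (fun i => (Scheme.Modules.pullback h').mapIso (e i).symm ≪≫
        (Scheme.Modules.pullbackComp h' φ).app (Qs i) ≪≫ (Scheme.Modules.pullbackCongr hg').app (Qs i) ≪≫ (eC i).symm)
    have hL2 : e'' (Fin.last (m + 1)) = e' ≪≫ eL.symm := Fin.lastCases_last ..
    have hC2 : ∀ i, e'' (Fin.castSucc i) = (Scheme.Modules.pullback h').mapIso (e i).symm ≪≫
        (Scheme.Modules.pullbackComp h' φ).app (Qs i) ≪≫ (Scheme.Modules.pullbackCongr hg').app (Qs i) ≪≫ (eC i).symm :=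
      fun i => Fin.lastCases_castSucc ..
    refine huniq h' ⟨hh', e'', fun i => ?_⟩
    induction i using Fin.lastCases with
    | last =>
      rw [hL2, hsL, Iso.trans_hom, Iso.symm_hom, ← qb_eq, ← ht, ← he (Fin.last m), Category.assoc,
        qb_qb (qs (Fin.last m)) hφ hg' hh' rfl, Category.assoc]
      rw [← qb_eq] at he'
      rw [reassoc_of% he']
      simp [aL, a]
    | cast i =>
      rw [hC2, hsC, ← qb_eq]
      simp only [Iso.trans_hom, Iso.app_hom, Functor.mapIso_hom, Iso.symm_hom, ← Category.assoc]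
      congr 1
      rw [qb_comp, ← he i, Category.assoc (qb (qs i) hφ), Iso.hom_inv_id,
        qb_qb (qs i) hφ hg' hh' rfl, qb_eq (𝟙 _)]
      simp [quotBC, a, Scheme.Modules.pullbackCongr]

end step

end Groth.Agent.FlagLib
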